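import Mathlib

/-!
# Functions of a morphism with trivial direct image after flat base change
-/

set_option autoImplicit false
set_option linter.style.haveILetI false
set_option backward.isDefEq.respectTransparency false

universe u

open CategoryTheory CategoryTheory.Limits AlgebraicGeometry TopologicalSpace Opposite

noncomputable section

namespace Groth.Agent.ParaFPullLib

/-- Bijectivity on the small affine opens gives bijectivity everywhere. -/
theorem bijective_app_of_small_affine {P T : Scheme.{u}} (h : P ⟶ T) (B : T.Opens → Prop)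
    (hB : ∀ (O : T.Opens) (t : T), t ∈ O → ∃ W : T.Opens, B W ∧ t ∈ W ∧ W ≤ O)
    (hbij : ∀ W, B W → Function.Bijective (h.app W)) (O : T.Opens) : Function.Bijective (h.app O) := by
  have nat : ∀ {a b : T.Opens} (hba : b ≤ a) (s : Γ(T, a)),
      h.app b (T.presheaf.map (homOfLE hba).op s) =
        P.presheaf.map (homOfLE (h.preimage_mono hba)).op (h.app a s) := fun hba s =>
    ConcreteCategory.congr_hom (h.naturality (homOfLE hba).op) s
  have hinj : ∀ O : T.Opens, Function.Injective (h.app O) := by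
    intro O a b hab
    choose W hW htW hWO using fun t : O => hB O t.1 t.2
    refine T.sheaf.eq_of_locally_eq' W O (fun t => homOfLE (hWO t))
      (fun t ht => Opens.mem_iSup.2 ⟨⟨t, ht⟩, htW _⟩) a b fun t => ?_
    apply (hbij (W t) (hW t)).1
    show h.app (W t) (T.presheaf.map (homOfLE (hWO t)).op a) = h.app (W t) (T.presheaf.map (homOfLE (hWO t)).op b)
    rw [nat, nat, hab]
  refine ⟨hinj O, fun c => ?_⟩
  choose W hW htW hWO using fun t : O => hB O t.1 t.2
  choose s hs using fun t => (hbij (W t) (hW t)).2 (P.presheaf.map (homOfLE (h.preimage_mono (hWO t))).op c)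
  obtain ⟨a, ha, -⟩ := T.sheaf.existsUnique_gluing' W O (fun t => homOfLE (hWO t))
    (fun t ht => Opens.mem_iSup.2 ⟨⟨t, ht⟩, htW _⟩) s (fun x y => by
      apply hinj
      show h.app _ (T.presheaf.map (homOfLE inf_le_left).op (s x)) = h.app _ (T.presheaf.map (homOfLE inf_le_right).op (s y))
      rw [nat, nat, hs, hs, ← ConcreteCategory.comp_apply, ← ConcreteCategory.comp_apply, ← Functor.map_comp, ← Functor.map_comp]
      rfl)
  refine ⟨a, P.sheaf.eq_of_locally_eq' (fun t => h ⁻¹ᵁ W t) (h ⁻¹ᵁ O) (fun t => homOfLE (h.preimage_mono (hWO t)))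
    (fun p hp => Opens.mem_iSup.2 ⟨⟨h p, hp⟩, htW _⟩) _ _ fun t => ?_⟩
  show P.presheaf.map (homOfLE (h.preimage_mono (hWO t))).op (h.app O a) = P.presheaf.map (homOfLE (h.preimage_mono (hWO t))).op c
  rw [← nat (hWO t), show T.presheaf.map (homOfLE (hWO t)).op a = s t from ha t, hs]

/-- `O_Y = f_* O_X` is preserved by flat base change. -/
theorem bijective_app_baseChange {X Y Y' X' : Scheme.{u}} {f : X ⟶ Y} {g : Y' ⟶ Y} {g' : X' ⟶ X} {f' : X' ⟶ Y'}
    (H : IsPullback g' f' f g) [QuasiCompact f] [QuasiSeparated f] [Flat g]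
    (hf : ∀ V : Y.Opens, Function.Bijective (f.app V)) (O : Y'.Opens) : Function.Bijective (f'.app O) := by
  refine bijective_app_of_small_affine f'
    (fun W => IsAffineOpen W ∧ ∃ V : Y.Opens, IsAffineOpen V ∧ W ≤ g ⁻¹ᵁ V) (fun O t ht => ?_) (fun W hW => ?_) O
  · obtain ⟨_, ⟨V, hV, rfl⟩, htV, -⟩ := Y.isBasis_affineOpens.exists_subset_of_mem_open (Set.mem_univ (g t)) isOpen_univ
    obtain ⟨_, ⟨W, hW, rfl⟩, htW, hWle⟩ := Y'.isBasis_affineOpens.exists_subset_of_mem_open
      (show t ∈ (O ⊓ g ⁻¹ᵁ V : Y'.Opens) from ⟨ht, htV⟩) (O ⊓ g ⁻¹ᵁ V).2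
    exact ⟨W, ⟨hW, V, hV, fun z hz => (hWle hz).2⟩, htW, fun z hz => (hWle hz).1⟩
  · obtain ⟨hW, V, hV, hWV⟩ := hW
    have hUY : f' ⁻¹ᵁ W = g' ⁻¹ᵁ (f ⁻¹ᵁ V) ⊓ f' ⁻¹ᵁ W := by
      refine (inf_eq_right.2 ?_).symm
      rw [← Scheme.Hom.comp_preimage, H.w, Scheme.Hom.comp_preimage]
      exact f'.preimage_mono hWV
    haveI h1 : IsIso (pushoutSection H hWV le_rfl hUY) :=
      isIso_pushoutSection_of_isQuasiSeparated_of_flat_right H hWV le_rfl hUY hV hW
        (f.isCompact_preimage hV.isCompact) (f.isQuasiSeparated_preimage hV.isQuasiSeparated)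
    have h2 := (isIso_pushoutSection_iff H hWV le_rfl hUY).1 h1
    haveI : IsIso (f.appLE V (f ⁻¹ᵁ V) le_rfl) := by
      rw [← Scheme.Hom.app_eq_appLE]
      exact (ConcreteCategory.isIso_iff_bijective _).2 (hf V)
    haveI : IsIso (f'.appLE W (f' ⁻¹ᵁ W) le_rfl) := h2.isIso_inr_of_isIso
    rw [Scheme.Hom.app_eq_appLE]
    exact ConcreteCategory.bijective_of_isIso _

end Groth.Agent.ParaFPullLib
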